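import Cfsg.Agent.H72.F4I.Num_m3
import Cfsg.Agent.H360.Iso.Uni
import Cfsg.Agent.H371.AlgLemma_m3
import Cfsg.Agent.H964.PrimeGraph
import Cfsg.Agent.H379.P4.TwoElt
import Cfsg.Agent.H377.OddThree_m3
import Cfsg.Agent.H380.AltSpec
import Cfsg.Agent.H360.Iso.TwF4
import Cfsg.Agent.OddCyclic.ClaimC.SzIso
import Cfsg.Agent.S2238
import Cfsg.Agent.S1159
import Cfsg.Agent.Prune
set_option linter.all false

section
prune_inst 0x7f00000000000000000000000000000000000000000000000000000000000000000000000000000000000000000000000000000000000000000000000000000000000000000000000000000000000000003fffffffffffffffffffffffffffbeffbdffffffff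

-- part: H72/F4I/Iso/Uni
section
set_option linter.all false
open scoped Cfsg.Agent.FastGrp

/-!
# Isolated numbers of `PSU n F q`, `n ≥ 3` (copy of H360.Iso with the bound 13; helper72)
-/

set_option autoImplicit false

namespace Cfsg.Agent.H72.F4I.Iso

open Cfsg Cfsg.Agent.H948.UBase Cfsg.Agent.H948.UProd Cfsg.Agent.H948.UTorus Cfsg.Agent.H948.UMain
open Cfsg.Agent.H564.NearTwo (Near)
open Cfsg.Agent.H360.Iso (exists_topU exists_subU exists_blockU)

theorem ph_cast {q : ℕ} (hq : 1 ≤ q) (i : ℕ) : (ph q i : ℤ) = (q : ℤ) ^ (i + 1) - (-1) ^ (i + 1) := by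
  have h1 : 1 ≤ q ^ (i + 1) := Nat.one_le_pow _ _ hq
  rcases Nat.even_or_odd i with hi | hi
  · rw [ph_even hi, (hi.add_one).neg_one_pow]
    push_cast
    ring
  · rw [ph_odd (Nat.not_even_iff_odd.2 hi), (hi.add_one).neg_one_pow]
    push_cast [h1]
    ring

/-- `ph q i = (q + 1) * S` with `S ≡ ± (i + 1) mod q + 1` -/
theorem ph_geom {q : ℕ} (hq : 1 ≤ q) (i : ℕ) : ∃ S : ℕ, ph q i = (q + 1) * S ∧
    ∀ d : ℕ, d ∣ q + 1 → d ∣ i + 1 → d ∣ S := by
  have h1 : (∑ j ∈ Finset.range (i + 1), (q : ℤ) ^ j * (-1) ^ (i + 1 - 1 - j)) * ((q : ℤ) - (-1)) =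
      (q : ℤ) ^ (i + 1) - (-1) ^ (i + 1) := Commute.geom_sum₂_mul (Commute.all _ _) _
  rw [← ph_cast hq, sub_neg_eq_add] at h1
  have h2 : ((q + 1 : ℕ) : ℤ) ∣ (ph q i : ℤ) := by
    rw [← h1]
    push_cast
    exact dvd_mul_left _ _
  obtain ⟨S, hS⟩ : q + 1 ∣ ph q i := by exact_mod_cast h2
  refine ⟨S, hS, fun d hd1 hd2 => ?_⟩
  have h3 : (S : ℤ) = ∑ j ∈ Finset.range (i + 1), (q : ℤ) ^ j * (-1) ^ (i + 1 - 1 - j) := by
    have h4 : (S : ℤ) * ((q : ℤ) + 1) =
        (∑ j ∈ Finset.range (i + 1), (q : ℤ) ^ j * (-1) ^ (i + 1 - 1 - j)) * ((q : ℤ) + 1) := by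
      rw [h1, hS]
      push_cast
      ring
    exact mul_right_cancel₀ (by omega : ((q : ℤ) + 1) ≠ 0) h4
  have h5 : (d : ℤ) ∣ (S : ℤ) := by
    rw [h3]
    have hqd : (q : ℤ) ≡ -1 [ZMOD d] := by
      apply Int.ModEq.symm
      rw [Int.modEq_iff_dvd, sub_neg_eq_add]
      exact_mod_cast hd1
    have h6 : (∑ j ∈ Finset.range (i + 1), (q : ℤ) ^ j * (-1) ^ (i + 1 - 1 - j)) ≡
        ∑ j ∈ Finset.range (i + 1), (-1 : ℤ) ^ i [ZMOD d] := by
      refine Int.ModEq.sum fun j hj => ?_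
      rw [Finset.mem_range] at hj
      have h7 : (-1 : ℤ) ^ i = (-1) ^ j * (-1) ^ (i + 1 - 1 - j) := by
        rw [← pow_add]
        congr 1
        omega
      rw [h7]
      exact (hqd.pow j).mul_right _
    rw [Finset.sum_const, Finset.card_range, nsmul_eq_mul] at h6
    refine (Int.ModEq.dvd_iff h6).2 ?_
    exact Dvd.dvd.mul_right (by exact_mod_cast hd2) _
  exact_mod_cast h5

theorem ph_dvd {q i d : ℕ} (hq : 1 ≤ q) (h1 : d ∣ q + 1) : d ∣ ph q i := by
  obtain ⟨S, hS, -⟩ := ph_geom hq i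
  rw [hS]
  exact h1.mul_right S

theorem ph_succ {q r i : ℕ} (hq : 1 ≤ q) (h1 : r ∣ ph q i) (h2 : r ∣ ph q (i + 1)) : r ∣ q + 1 := by
  have e1 : (r : ℤ) ∣ (ph q i : ℤ) := by exact_mod_cast h1
  have e2 : (r : ℤ) ∣ (ph q (i + 1) : ℤ) := by exact_mod_cast h2
  rw [ph_cast hq] at e1 e2
  have e3 : (r : ℤ) ∣ (-1) ^ (i + 1) * ((q : ℤ) ^ (i + 1 + 1) - (-1) ^ (i + 1 + 1) -
      q * ((q : ℤ) ^ (i + 1) - (-1) ^ (i + 1))) := (e2.sub (e1.mul_left _)).mul_left _
  have e4 : (-1 : ℤ) ^ (i + 1) * ((q : ℤ) ^ (i + 1 + 1) - (-1) ^ (i + 1 + 1) -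
      q * ((q : ℤ) ^ (i + 1) - (-1) ^ (i + 1))) = (q : ℤ) + 1 := by
    have e5 : (-1 : ℤ) ^ (i + 1) * (-1) ^ (i + 1) = 1 := by
      rw [← mul_pow]
      norm_num
    linear_combination ((q : ℤ) + 1) * e5
  rw [e4] at e3
  exact_mod_cast e3

/-- **`PSU n F q`, `n ≥ 3`** -/
theorem psu_row {F : Type*} [Field F] [Fintype F] {q : ℕ} (hF : Fintype.card F = q ^ 2) {n k : ℕ} (hn : 3 ≤ n)
    (h32 : ¬ (n = 3 ∧ q = 2)) (h : IsoN (PSU n F q) k) :
    (k * Nat.gcd n (q + 1) * (q + 1) = ph q (n - 1) ∧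
      ∃ x : PSU n F q, orderOf x * Nat.gcd n (q + 1) = ph q (n - 2)) ∨
    (4 ≤ n ∧ q + 1 ∣ n ∧ k * (q + 1) = ph q (n - 2) ∧ ∃ x : PSU n F q, orderOf x * (q + 1) ^ 2 = ph q (n - 1)) ∨
    (n = 4 ∧ q = 3 ∧ k = 35) ∨ (n = 6 ∧ q = 2 ∧ k = 77) := by
  have hq : 2 ≤ q := LieClassical.HermBasic.two_le hF
  have hfin : Finite (PSU n F q) := inferInstance
  have hk31 := h.big
  set g := Nat.gcd n (q + 1) with hg
  have hgq : g ∣ q + 1 := Nat.gcd_dvd_right _ _
  have hg0 : 0 < g := Nat.gcd_pos_of_pos_right _ (by omega)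
  have c0 : ∀ r : ℕ, r.Prime → r ∣ k → ¬ r ∣ q := fun r hr hrk hd =>
    h.not_adj hrk (adj_two_of_char hF hn hr (h.ne_two hrk) hd)
  have c2 : ∀ r i : ℕ, r.Prime → r ∣ k → 4 ≤ n → i < n - 2 → ¬ r ∣ ph q i := fun r i hr hrk hn4 hi hd =>
    h.not_adj hrk (adj_two_of_lt hF hn4 hr (h.ne_two hrk) hi hd)
  have hnear : ∀ r : ℕ, r.Prime → r ∣ k → Far2 n q r ∨ (4 ≤ n ∧ Far1 n q r ∧ (q + 1) ∣ n) := by
    intro r hr hrk
    rcases near_or hF hn h32 hr (h.ne_two hrk) (h.prime_dvd_card hrk) with h1 | h1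
    · exact absurd h1 (h.not_near hrk)
    · exact h1
  have c1 : ∀ r : ℕ, r.Prime → r ∣ k → ¬ r ∣ q + 1 := by
    intro r hr hrk
    rcases hnear r hr hrk with h1 | ⟨-, h1, -⟩
    · exact h1.2
    · exact h1.2
  have hgk : Nat.Coprime k g := Nat.coprime_of_dvd fun r hr hrk hrg => c1 r hr hrk (hrg.trans hgq)
  have hq1k : Nat.Coprime k (q + 1) := Nat.coprime_of_dvd fun r hr hrk hrg => c1 r hr hrk hrg
  have hred : k ∣ ph q (n - 2) * ph q (n - 1) := by
    have h1 : k ∣ Nat.card (SU n F q) := h.dvd_card.trans (Subgroup.card_quotient_dvd_card _)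
    rw [card_SU hF (by omega)] at h1
    have h2 := dvd_of_primes h1 fun r hr hrk hd => c0 r hr hrk (hr.dvd_of_dvd_pow hd)
    obtain ⟨t, rfl⟩ : ∃ t, n = t + 3 := ⟨n - 3, by omega⟩
    have e : t + 3 - 1 = t + 1 + 1 := by omega
    rw [e, Finset.prod_range_succ, Finset.prod_range_succ, mul_assoc] at h2
    have e2 : t + 3 - 2 = t + 1 := by omega
    rw [e, e2]
    refine dvd_of_primes h2 fun r hr hrk => not_dvd_prod (fun i hi => ?_) hr
    rw [Finset.mem_range] at hi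
    exact c2 r (i + 1) hr hrk (by omega) (by omega)
  by_cases h43 : n = 4 ∧ q = 3
  · right; right; left
    obtain ⟨rfl, rfl⟩ := h43
    refine ⟨rfl, rfl, ?_⟩
    have h1 : k ∣ (3 ^ 3 + 1) * (3 ^ 4 - 1) := by
      have h2 := hred
      unfold ph at h2
      exact h2
    norm_num at h1
    have h2 : k ∣ 2 ^ 6 * 35 := by norm_num; exact h1
    have h3 : k ∣ 35 := dvd_of_primes h2 fun r hr hrk hd =>
      h.ne_two hrk ((Nat.prime_dvd_prime_iff_eq hr Nat.prime_two).1 (hr.dvd_of_dvd_pow hd))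
    have h4 := Nat.le_of_dvd (by norm_num) h3
    interval_cases k <;> first | rfl | omega
  by_cases h62 : n = 6 ∧ q = 2
  · right; right; right
    obtain ⟨rfl, rfl⟩ := h62
    refine ⟨rfl, rfl, ?_⟩
    have h1 : k ∣ (2 ^ 5 + 1) * (2 ^ 6 - 1) := by
      have h2 := hred
      unfold ph at h2
      exact h2
    norm_num at h1
    have h2 : k ∣ 3 ^ 3 * 77 := by norm_num; exact h1
    have h3 : k ∣ 77 := dvd_of_primes h2 fun r hr hrk hd =>
      h.ne_three hrk ((Nat.prime_dvd_prime_iff_eq hr Nat.prime_three).1 (hr.dvd_of_dvd_pow hd))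
    have h4 := Nat.le_of_dvd (by norm_num) h3
    interval_cases k <;> first | rfl | omega
  -- the general case
  have hn2 : n - 2 + 1 = n - 1 := by omega
  by_cases htop : ∃ b : ℕ, b.Prime ∧ b ∣ k ∧ Far2 n q b
  · left
    obtain ⟨b, hb, hbk, hbF⟩ := htop
    have hall : ∀ r : ℕ, r.Prime → r ∣ k → ¬ r ∣ ph q (n - 2) := by
      intro r hr hrk hd
      rcases hnear r hr hrk with h1 | ⟨hn4, h1, hqn⟩
      · exact h1.2 (ph_succ (by omega) hd (by rw [hn2]; exact h1.1))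
      · rcases mixed hF hn4 hr hb (h.ne_two hrk) (h.ne_two hbk) hqn h1 hbF with h2 | h2 | h2 | h2
        · exact h.not_near hrk h2
        · exact h.not_near hbk h2
        · exact h43 h2
        · exact h62 h2
    have hk1 : k ∣ ph q (n - 1) := dvd_of_primes hred hall
    obtain ⟨S, hS, hSd⟩ := ph_geom (q := q) (by omega) (n - 1)
    have hgS : g ∣ S := hSd g hgq (by
      rw [Nat.sub_add_cancel (by omega)]
      exact Nat.gcd_dvd_left _ _)
    have hkS : k ∣ S := hq1k.dvd_of_dvd_mul_left (by rwa [← hS])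
    obtain ⟨x, hx⟩ := exists_topU hF hn
    rw [← hg, hS, mul_comm (q + 1) S] at hx
    have hx1 : S ∣ orderOf x * g := Nat.dvd_of_mul_dvd_mul_right (by omega) hx
    have hxk : orderOf x ∣ k := by
      refine h.iso x b hb hbk ?_
      have h2 : b ∣ orderOf x * g := (hbk.trans hkS).trans hx1
      rcases (Nat.Prime.dvd_mul hb).1 h2 with h3 | h3
      · exact h3
      · exact absurd (h3.trans hgq) (c1 b hb hbk)
    have hkx : k ∣ orderOf x := hgk.dvd_of_dvd_mul_right (hkS.trans hx1)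
    have hxe : orderOf x = k := Nat.dvd_antisymm hxk hkx
    rw [hxe] at hx1
    have hkgS : k * g ∣ S := hgk.mul_dvd_of_dvd_of_dvd hkS hgS
    have hSe : S = k * g := Nat.dvd_antisymm hx1 hkgS
    refine ⟨by rw [hS, hSe]; ring, ?_⟩
    obtain ⟨y, hy⟩ := exists_subU hF hn
    obtain ⟨M, hM⟩ : g ∣ ph q (n - 2) := ph_dvd (by omega) hgq
    rw [← hg, hM, mul_comm g M] at hy
    obtain ⟨z, hz⟩ := exists_order ⟨y, Nat.dvd_of_mul_dvd_mul_right hg0 hy⟩
    exact ⟨z, by rw [hz, hM, mul_comm]⟩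
  · right; left
    push Not at htop
    have hall : ∀ r : ℕ, r.Prime → r ∣ k → 4 ≤ n ∧ Far1 n q r ∧ (q + 1) ∣ n := fun r hr hrk =>
      (hnear r hr hrk).resolve_left (htop r hr hrk)
    obtain ⟨b, hb, hbk⟩ := h.exists_prime
    obtain ⟨hn4, -, hqn⟩ := hall b hb hbk
    have hk1 : k ∣ ph q (n - 2) := by
      rw [mul_comm] at hred
      refine dvd_of_primes hred fun r hr hrk hd => ?_
      have h1 := (hall r hr hrk).2.1
      exact h1.2 (ph_succ (by omega) h1.1 (by rw [hn2]; exact hd))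
    have h5 : g = q + 1 := Nat.gcd_eq_right hqn
    obtain ⟨S, hS, -⟩ := ph_geom (q := q) (by omega) (n - 2)
    have hkS : k ∣ S := hq1k.dvd_of_dvd_mul_left (by rwa [← hS])
    obtain ⟨y, hy⟩ := exists_subU hF hn
    rw [← hg, h5, hS, mul_comm (q + 1) S] at hy
    have hy1 : S ∣ orderOf y := Nat.dvd_of_mul_dvd_mul_right (by omega) hy
    have hyk : orderOf y ∣ k := h.iso y b hb hbk ((hbk.trans hkS).trans hy1)
    have h7 : k = S := Nat.dvd_antisymm hkS (hy1.trans hyk)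
    refine ⟨hn4, hqn, by rw [h7, hS, mul_comm], ?_⟩
    obtain ⟨S', hS', hSd'⟩ := ph_geom (q := q) (by omega) (n - 1)
    have h8 : (q + 1) ^ 2 ∣ ph q (n - 1) := by
      rw [hS', pow_two]
      exact Nat.mul_dvd_mul_left _ (hSd' _ dvd_rfl (by rw [Nat.sub_add_cancel (by omega)]; exact hqn))
    obtain ⟨x, hx⟩ := exists_topU hF hn
    rw [← hg, h5] at hx
    obtain ⟨M, hM⟩ := h8
    rw [hM, mul_assoc, ← pow_two, mul_comm] at hx
    obtain ⟨z, hz⟩ := exists_order ⟨x, Nat.dvd_of_mul_dvd_mul_right (pow_pos (by omega) 2) hx⟩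
    exact ⟨z, by rw [hz, hM, mul_comm]⟩

end Cfsg.Agent.H72.F4I.Iso
end

-- part: H72/F4I/Iso/Lin
section
set_option linter.all false
open scoped Cfsg.Agent.FastGrp

/-!
# Isolated numbers of `PSL_n(q)`, `n ≥ 3` (copy of H360.Iso with the bound 13; helper72)
-/

set_option autoImplicit false

namespace Cfsg.Agent.H72.F4I.Iso

open Matrix Cfsg.Agent.H371 Cfsg.Agent.H371.Psl
open Cfsg.Agent.H360.Iso (exists_top exists_sub exists_two)

section

variable {F : Type*} [Field F] [Finite F]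

omit [Field F] [Finite F] in
theorem geom_mod {q : ℕ} (hq : 1 ≤ q) (n : ℕ) : ∃ S t : ℕ, q ^ n = (q - 1) * S + 1 ∧ S = n + (q - 1) * t := by
  induction n with
  | zero => exact ⟨0, 0, by simp, by simp⟩
  | succ n ih =>
    obtain ⟨S, t, h1, h2⟩ := ih
    obtain ⟨e, rfl⟩ : ∃ e, q = e + 1 := ⟨q - 1, by omega⟩
    rw [Nat.add_sub_cancel] at h1 h2 ⊢
    refine ⟨S + (e + 1) ^ n, t + S, ?_, ?_⟩
    · rw [pow_succ, h1]
      ring
    · rw [h1]
      conv_lhs => rw [h2]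
      rw [h2]
      ring

omit [Field F] [Finite F] in
theorem gcd_dvd_geom {q n S : ℕ} (hq : 1 < q) (hS : q ^ n - 1 = (q - 1) * S) : Nat.gcd n (q - 1) ∣ S := by
  obtain ⟨S', t, h1, h2⟩ := geom_mod hq.le n
  have h3 : (q - 1) * S = (q - 1) * S' := by
    rw [← hS, h1, Nat.add_sub_cancel]
  have h4 : S = S' := Nat.eq_of_mul_eq_mul_left (by omega) h3
  rw [h4, h2]
  exact dvd_add (Nat.gcd_dvd_left _ _) ((Nat.gcd_dvd_right _ _).mul_right _)

theorem not_small_three {n k : ℕ} (h : IsoN (ProjectiveSpecialLinearGroup (Fin n) F) k) :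
    ¬ (n = 3 ∧ (Nat.card F = 2 ∨ Nat.card F = 4)) := by
  rintro ⟨rfl, hq⟩
  obtain ⟨p, hp⟩ := CharP.exists F
  have hpf : Fact p.Prime := ⟨CharP.char_is_prime F p⟩
  classical
  letI := Fintype.ofFinite F
  have hb := h.big
  have hp2 : p = 2 := by
    obtain ⟨t, -, ht⟩ := FiniteField.card F p
    rw [← Nat.card_eq_fintype_card] at ht
    have h1 : p ∣ 2 ^ 2 := by
      have h2 : p ∣ Nat.card F := by
        rw [ht]
        exact dvd_pow_self p t.ne_zero
      rcases hq with h3 | h3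
      · rw [h3] at h2
        exact h2.trans (by norm_num)
      · rw [h3] at h2
        exact h2
    exact (Nat.prime_dvd_prime_iff_eq hpf.out Nat.prime_two).1 (hpf.out.dvd_of_dvd_pow h1)
  have h1 := (H964.PrimeGraph.mem_spec3 (F := F) p k).1 h.elt
  rw [← Nat.card_eq_fintype_card, hp2] at h1
  rcases hq with h3 | h3 <;> rw [h3] at h1 <;> norm_num at h1 <;>
    rcases h1 with h1 | h1 | h1 | h1 | h1 <;> first
      | (have := Nat.le_of_dvd (by norm_num) h1; omega)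
      | omega

/-- **`PSL_n(q)`, `n ≥ 3`** -/
theorem psl_row {n k : ℕ} (hn : 3 ≤ n) (h : IsoN (ProjectiveSpecialLinearGroup (Fin n) F) k) :
    (k * Nat.gcd n (Nat.card F - 1) * (Nat.card F - 1) = Nat.card F ^ n - 1 ∧
      ∃ x : ProjectiveSpecialLinearGroup (Fin n) F,
        orderOf x * Nat.gcd n (Nat.card F - 1) = Nat.card F ^ (n - 1) - 1) ∨
    (Nat.card F - 1 ∣ n ∧ k * (Nat.card F - 1) = Nat.card F ^ (n - 1) - 1 ∧
      ∃ x : ProjectiveSpecialLinearGroup (Fin n) F, orderOf x * (Nat.card F - 1) ^ 2 = Nat.card F ^ n - 1) := by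
  have hexc := not_small_three h
  have hq : 1 < Nat.card F := Finite.one_lt_card
  have hfin : Finite (ProjectiveSpecialLinearGroup (Fin n) F) := inferInstance
  set q := Nat.card F with hqd
  set g := Nat.gcd n (q - 1) with hg
  have hgq : g ∣ q - 1 := Nat.gcd_dvd_right _ _
  have hg0 : 0 < g := Nat.gcd_pos_of_pos_left _ (by omega)
  have hone : ∀ i, 1 ≤ q ^ i := fun i => Nat.one_le_pow _ _ (by omega)
  -- primes dividing `k`
  have c0 : ∀ r : ℕ, r.Prime → r ∣ k → ¬ r ∣ q := by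
    intro r hr hrk hd
    rcases conn_two_small (F := F) hn hr (h.ne_two hrk) (Or.inl hd) with h1 | h1
    · exact h.not_pconn hrk h1
    · exact hexc h1
  have c1 : ∀ r : ℕ, r.Prime → r ∣ k → ¬ r ∣ q - 1 := by
    intro r hr hrk hd
    rcases conn_two_small (F := F) hn hr (h.ne_two hrk) (Or.inr hd) with h1 | h1
    · exact h.not_pconn hrk h1
    · exact hexc h1
  have c2 : ∀ r j : ℕ, r.Prime → r ∣ k → 1 ≤ j → j + 2 ≤ n → ¬ r ∣ q ^ j - 1 := by
    intro r j hr hrk hj hjn hd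
    exact h.not_pconn hrk (adj_two_of_le hr (h.ne_two hrk) hj hjn hd (c1 r hr hrk)).symm.conn
  have hcase : ∀ r : ℕ, r.Prime → r ∣ k → r ∣ q ^ (n - 1) - 1 ∨ r ∣ q ^ n - 1 := by
    intro r hr hrk
    rcases cases_odd hn hr (h.ne_two hrk) (h.prime_dvd_card hrk) with h1 | h1 | h1 | h1
    · exact absurd h1 (h.not_pconn hrk)
    · exact absurd h1 hexc
    · exact Or.inl h1.2
    · exact Or.inr h1.2
  have hnb : ∀ r : ℕ, r.Prime → r ∣ k → r ∣ q ^ (n - 1) - 1 → ¬ r ∣ q ^ n - 1 := by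
    intro r hr hrk h1 h2
    have h3 : r ∣ q ^ Nat.gcd (n - 1) n - 1 := by
      rw [← Nat.pow_sub_one_gcd_pow_sub_one]
      exact Nat.dvd_gcd h1 h2
    have h4 : Nat.gcd (n - 1) n = 1 := by
      have : Nat.gcd (n - 1) (n - 1 + 1) = 1 := by simp
      rwa [Nat.sub_add_cancel (by omega)] at this
    rw [h4, pow_one] at h3
    exact c1 r hr hrk h3
  -- `k` divides the two factors
  have hred : k ∣ (q ^ (n - 1) - 1) * (q ^ n - 1) := by
    classical
    letI := Fintype.ofFinite F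
    have h1 := S0243.result (F := F) (q := q) (Nat.card_eq_fintype_card).symm n (by omega)
    have h2 : k ∣ ∏ i : Fin n, (q ^ n - q ^ (i : ℕ)) := by
      rw [← h1]
      exact (h.dvd_card.mul_left _).mul_left _
    rw [Fin.prod_univ_eq_prod_range (fun i => q ^ n - q ^ i) n] at h2
    obtain ⟨t, rfl⟩ : ∃ t, n = t + 2 := ⟨n - 2, by omega⟩
    rw [Finset.prod_range_succ', Finset.prod_range_succ', mul_assoc] at h2
    have h3 := dvd_of_primes h2 fun r hr hrk => not_dvd_prod (fun i hi => by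
      rw [Finset.mem_range] at hi
      have e : q ^ (t + 2) - q ^ (i + 1 + 1) = q ^ (i + 2) * (q ^ (t - i) - 1) := by
        rw [Nat.mul_sub, mul_one, ← pow_add]
        congr 2
        omega
      rw [e]
      intro hd
      rcases (Nat.Prime.dvd_mul hr).1 hd with h4 | h4
      · exact c0 r hr hrk (hr.dvd_of_dvd_pow h4)
      · exact c2 r (t - i) hr hrk (by omega) (by omega) h4) hr
    have e : q ^ (t + 2) - q ^ (0 + 1) = q * (q ^ (t + 1) - 1) := by
      rw [Nat.mul_sub, mul_one, zero_add, pow_one, pow_succ, mul_comm]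
    rw [e, mul_assoc] at h3
    have h4 := dvd_of_primes h3 c0
    rw [pow_zero] at h4
    exact h4
  have hgk : Nat.Coprime k g := Nat.coprime_of_dvd fun r hr hrk hrg => c1 r hr hrk (hrg.trans hgq)
  have hq1k : Nat.Coprime k (q - 1) := Nat.coprime_of_dvd fun r hr hrk hrg => c1 r hr hrk hrg
  by_cases htop : ∃ b : ℕ, b.Prime ∧ b ∣ k ∧ b ∣ q ^ n - 1
  · left
    obtain ⟨b, hb, hbk, hbn⟩ := htop
    have hall : ∀ r : ℕ, r.Prime → r ∣ k → ¬ r ∣ q ^ (n - 1) - 1 := by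
      intro r hr hrk hd
      rcases mixed hn hr hb (h.ne_two hbk) (c1 r hr hrk) (c1 b hb hbk) hd hbn with h1 | h1 | h1
      · exact h.not_pconn hrk h1
      · exact h.not_pconn hbk h1
      · exact hexc h1
    have hk1 : k ∣ q ^ n - 1 := dvd_of_primes hred hall
    obtain ⟨S, hS⟩ : ∃ S, q ^ n - 1 = (q - 1) * S := Nat.sub_one_dvd_pow_sub_one q n
    have hkS : k ∣ S := hq1k.dvd_of_dvd_mul_left (by rwa [← hS])
    obtain ⟨x, hx⟩ := exists_top (F := F) (n := n) (by omega)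
    rw [← hqd, ← hg, hS, mul_comm (q - 1) S] at hx
    have hx1 : S ∣ orderOf x * g := Nat.dvd_of_mul_dvd_mul_right (by omega) hx
    have hxk : orderOf x ∣ k := by
      refine h.iso x b hb hbk ?_
      have h2 : b ∣ orderOf x * g := (hbk.trans hkS).trans hx1
      rcases (Nat.Prime.dvd_mul hb).1 h2 with h3 | h3
      · exact h3
      · exact absurd (h3.trans hgq) (c1 b hb hbk)
    have hkx : k ∣ orderOf x := hgk.dvd_of_dvd_mul_right (hkS.trans hx1)
    have hxe : orderOf x = k := Nat.dvd_antisymm hxk hkx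
    rw [hxe] at hx1
    -- `g ∣ S`
    have hgS : g ∣ S := gcd_dvd_geom hq hS
    have hkgS : k * g ∣ S := hgk.mul_dvd_of_dvd_of_dvd hkS hgS
    have hSe : S = k * g := Nat.dvd_antisymm hx1 hkgS
    refine ⟨by rw [hS, hSe]; ring, ?_⟩
    obtain ⟨m, rfl⟩ : ∃ m, n = m + 1 := ⟨n - 1, by omega⟩
    obtain ⟨y, hy⟩ := exists_sub (F := F) (m := m) (by omega)
    obtain ⟨M, hM⟩ : g ∣ q ^ m - 1 := hgq.trans (Nat.sub_one_dvd_pow_sub_one q m)
    rw [← hqd, ← hg, hM, mul_comm g M] at hy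
    obtain ⟨z, hz⟩ := exists_order ⟨y, Nat.dvd_of_mul_dvd_mul_right hg0 hy⟩
    exact ⟨z, by rw [hz, Nat.add_sub_cancel, hM, mul_comm]⟩
  · right
    push Not at htop
    have hk1 : k ∣ q ^ (n - 1) - 1 := by
      rw [mul_comm] at hred
      exact dvd_of_primes hred htop
    obtain ⟨S, hS⟩ : ∃ S, q ^ (n - 1) - 1 = (q - 1) * S := Nat.sub_one_dvd_pow_sub_one q (n - 1)
    have hkS : k ∣ S := hq1k.dvd_of_dvd_mul_left (by rwa [← hS])
    have hS0 : 0 < S := by
      rcases Nat.eq_zero_or_pos S with h0 | h0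
      · exfalso
        rw [h0, mul_zero] at hS
        have h2 : q ^ 1 ≤ q ^ (n - 1) := Nat.pow_le_pow_right (by omega) (by omega)
        rw [pow_one] at h2
        omega
      · exact h0
    obtain ⟨b, hb, hbk⟩ := h.exists_prime
    obtain ⟨m, rfl⟩ : ∃ m, n = m + 1 := ⟨n - 1, by omega⟩
    obtain ⟨y, hy⟩ := exists_sub (F := F) (m := m) (by omega)
    rw [Nat.add_sub_cancel] at hS hk1
    rw [← hqd, ← hg, hS] at hy
    have hyk : orderOf y ∣ k := by
      refine h.iso y b hb hbk ?_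
      have h2 : b ∣ orderOf y * g := ((hbk.trans hkS).mul_left (q - 1)).trans hy
      rcases (Nat.Prime.dvd_mul hb).1 h2 with h3 | h3
      · exact h3
      · exact absurd (h3.trans hgq) (c1 b hb hbk)
    have h3 : (q - 1) * S ∣ S * g := hy.trans (Nat.mul_dvd_mul_right (hyk.trans hkS) g)
    rw [mul_comm (q - 1) S] at h3
    have h4 : q - 1 ∣ g := Nat.dvd_of_mul_dvd_mul_left hS0 h3
    have h5 : g = q - 1 := Nat.dvd_antisymm hgq h4
    have h6 : S ∣ k := by
      rw [h5, mul_comm (q - 1) S] at hy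
      exact (Nat.dvd_of_mul_dvd_mul_right (by omega) hy).trans hyk
    have h7 : k = S := Nat.dvd_antisymm hkS h6
    have hqn : q - 1 ∣ m + 1 := by rw [← h5]; exact Nat.gcd_dvd_left _ _
    refine ⟨hqn, by rw [h7, Nat.add_sub_cancel, hS, mul_comm], ?_⟩
    obtain ⟨x, hx⟩ := exists_top (F := F) (n := m + 1) (by omega)
    rw [← hqd, ← hg, h5] at hx
    have h8 : (q - 1) ^ 2 ∣ q ^ (m + 1) - 1 := by
      obtain ⟨S', hS'⟩ : ∃ S, q ^ (m + 1) - 1 = (q - 1) * S := Nat.sub_one_dvd_pow_sub_one q (m + 1)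
      have h9 := gcd_dvd_geom hq hS'
      rw [← hg, h5] at h9
      rw [hS', pow_two]
      exact Nat.mul_dvd_mul_left _ h9
    obtain ⟨M, hM⟩ := h8
    rw [hM, mul_assoc, ← pow_two, mul_comm] at hx
    obtain ⟨z, hz⟩ := exists_order ⟨x, Nat.dvd_of_mul_dvd_mul_right (pow_pos (by omega) 2) hx⟩
    exact ⟨z, by rw [hz, hM, mul_comm]⟩

end

end Cfsg.Agent.H72.F4I.Iso
end

-- part: H72/F4I/Iso/Sp
section
set_option linter.all false
open scoped Cfsg.Agent.FastGrp

/-!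
# Isolated numbers of `PSp_{2m}(q)` and `Ω_{2m+1}(q)` (copy of H360.Iso with the bound 13; helper72)

`psp`, `omegaOdd`: the isolated number `n` is one of `A`, `B = A + 1` or `A + 2` (`A = (q^m-1)/(2,q-1)`,
`B = (q^m+1)/(2,q-1)`), and both `A`, `B` are element orders.
-/

set_option autoImplicit false

namespace Cfsg.Agent.H72.F4I.Iso

open Cfsg Cfsg.Agent.H377

/-- `A`, `B` are element orders, `n ∈ {A, B}` -/
def Twin (T : Type*) [Group T] (n A B : ℕ) : Prop :=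
  (n = A ∨ n = B) ∧ (∃ x : T, orderOf x = A) ∧ (∃ x : T, orderOf x = B)

/-- the abstract argument for both families -/
theorem twin_of {T : Type*} [Group T] [Finite T] {n q m A B c : ℕ} (h : IsoN T n) (hq : 1 < q) (hm : 2 ≤ m)
    (hc : (c = 1 ∧ Even q) ∨ (c = 2 ∧ Odd q)) (hA : c * A = q ^ m - 1) (hB : c * B = q ^ m + 1)
    (eA : ∃ x : T, orderOf x = A) (eB : ∃ x : T, orderOf x = B)
    (hcard : Nat.card T ∣ q ^ (m ^ 2) * ∏ i ∈ Finset.range m, (q ^ (2 * (i + 1)) - 1))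
    (h2 : ∀ u : ℕ, u.Prime → u ≠ 2 → u ∣ q → H94.PG.Adj T u 2)
    (hadj : ∀ u i : ℕ, u.Prime → u ≠ 2 → 1 ≤ i → i < m → u ∣ q ^ (2 * i) - 1 → H94.PG.Adj T u 2) :
    Twin T n A B := by
  refine ⟨?_, eA, eB⟩
  have hpos : 1 ≤ q ^ m := Nat.one_le_pow _ _ (by omega)
  -- `n ∣ (q^m-1)(q^m+1)`
  have hn0 : n ∣ (q ^ m - 1) * (q ^ m + 1) := by
    have h1 : n ∣ q ^ (m ^ 2) * ∏ i ∈ Finset.range m, (q ^ (2 * (i + 1)) - 1) := h.dvd_card.trans hcard
    obtain ⟨k, rfl⟩ : ∃ k, m = k + 1 := ⟨m - 1, by omega⟩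
    rw [Finset.prod_range_succ] at h1
    have h3 : n ∣ (∏ i ∈ Finset.range k, (q ^ (2 * (i + 1)) - 1)) * (q ^ (2 * (k + 1)) - 1) :=
      dvd_of_primes h1 fun r hr hrn hd =>
        h.not_adj hrn (h2 r hr (h.ne_two hrn) (hr.dvd_of_dvd_pow hd))
    have h4 : n ∣ q ^ (2 * (k + 1)) - 1 := dvd_of_primes h3 fun r hr hrn =>
      not_dvd_prod (fun i hi hd => by
        rw [Finset.mem_range] at hi
        exact h.not_adj hrn (hadj r (i + 1) hr (h.ne_two hrn) (by omega) (by omega) hd)) hr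
    have h5 : q ^ (2 * (k + 1)) - 1 = (q ^ (k + 1) - 1) * (q ^ (k + 1) + 1) := by
      rw [mul_comm 2, pow_mul, mul_comm, ← Nat.sq_sub_sq, one_pow]
    rwa [h5] at h4
  have hnA : ∀ r : ℕ, r.Prime → r ∣ n → r ∣ q ^ m - 1 → A ∣ n := by
    intro r hr hrn hd
    refine h.dvd_of_elt eA hr hrn ?_
    rw [← hA] at hd
    rcases (Nat.Prime.dvd_mul hr).1 hd with h3 | h3
    · exfalso
      rcases hc with ⟨rfl, -⟩ | ⟨rfl, -⟩
      · exact hr.one_lt.ne' (Nat.dvd_one.1 h3)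
      · exact h.ne_two hrn ((Nat.prime_dvd_prime_iff_eq hr Nat.prime_two).1 h3)
    · exact h3
  have hnB : ∀ r : ℕ, r.Prime → r ∣ n → r ∣ q ^ m + 1 → B ∣ n := by
    intro r hr hrn hd
    refine h.dvd_of_elt eB hr hrn ?_
    rw [← hB] at hd
    rcases (Nat.Prime.dvd_mul hr).1 hd with h3 | h3
    · exfalso
      rcases hc with ⟨rfl, -⟩ | ⟨rfl, -⟩
      · exact hr.one_lt.ne' (Nat.dvd_one.1 h3)
      · exact h.ne_two hrn ((Nat.prime_dvd_prime_iff_eq hr Nat.prime_two).1 h3)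
    · exact h3
  have hco : ∀ {C : ℕ}, n ∣ c * C → n ∣ C := by
    intro C hC
    rcases hc with ⟨rfl, -⟩ | ⟨rfl, -⟩
    · rwa [one_mul] at hC
    · exact dvd_of_odd_two_mul hC h.odd
  -- not both
  have hnot : ¬ (A ∣ n ∧ B ∣ n) := by
    rintro ⟨ha, hb⟩
    rcases hc with ⟨rfl, he⟩ | ⟨rfl, ho⟩
    · rw [one_mul] at hA hB
      -- a prime of `q + 1`
      obtain ⟨s, hs, hsd⟩ := Nat.exists_prime_and_dvd (n := q + 1) (by omega)
      have hs2 : s ≠ 2 := by
        rintro rfl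
        have h1 : Even (q + 1) := even_iff_two_dvd.2 hsd
        exact (Nat.not_even_iff_odd.2 (he.add_one)) h1
      have hsn : s ∣ n := by
        rcases Nat.even_or_odd m with hm' | hm'
        · refine dvd_trans ?_ ha
          rw [hA]
          obtain ⟨k, hk⟩ := hm'
          have h1 : q ^ 2 - 1 ∣ q ^ m - 1 := by
            rw [hk, ← two_mul, pow_mul]
            exact Nat.sub_one_dvd_pow_sub_one _ _
          refine dvd_trans ?_ h1
          have h2 : q ^ 2 - 1 = (q + 1) * (q - 1) := by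
            have := Nat.sq_sub_sq q 1
            rwa [one_pow] at this
          rw [h2]
          exact Dvd.dvd.mul_right hsd _
        · refine dvd_trans ?_ hb
          rw [hB]
          exact hsd.trans (two_torus hm')
      refine h.not_adj hsn (hadj s 1 hs hs2 le_rfl (by omega) ?_)
      have h2 : q ^ (2 * 1) - 1 = (q + 1) * (q - 1) := by
        have := Nat.sq_sub_sq q 1
        rwa [one_pow] at this
      rw [h2]
      exact Dvd.dvd.mul_right hsd _
    · -- parity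
      have h1 : Odd A := h.odd.of_dvd_nat ha
      have h3 : Odd B := h.odd.of_dvd_nat hb
      have h4 : B = A + 1 := by omega
      rw [h4] at h3
      exact (Nat.not_even_iff_odd.2 h3) h1.add_one
  by_cases hA' : A ∣ n
  · left
    refine Nat.dvd_antisymm ?_ hA'
    apply hco
    rw [hA]
    rw [mul_comm] at hn0
    refine dvd_of_primes hn0 fun r hr hrn hd => hnot ⟨hA', hnB r hr hrn hd⟩
  · right
    have h1 : n ∣ q ^ m + 1 := dvd_of_primes hn0 fun r hr hrn hd => hA' (hnA r hr hrn hd)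
    obtain ⟨r, hr, hrn⟩ := h.exists_prime
    refine Nat.dvd_antisymm ?_ (hnB r hr hrn (hrn.trans h1))
    apply hco
    rwa [hB]

section

variable {F : Type*} [Field F] [Finite F]

/-- **`PSp_{2m}(q)`** -/
theorem psp {m n : ℕ} (hm : 2 ≤ m) (h : IsoN (PSp m F) n) :
    ∃ A B c : ℕ, (A + 1 = B ∨ A + 2 = B) ∧ (c = 1 ∨ c = 2) ∧ c * A = Nat.card F ^ m - 1 ∧
      c * B = Nat.card F ^ m + 1 ∧ Twin (PSp m F) n A B := by
  classical
  letI := Fintype.ofFinite F
  have hq : 1 < Nat.card F := Finite.one_lt_card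
  have hfin : Finite (PSp m F) := inferInstance
  have hcard : Nat.card (PSp m F) ∣ Nat.card F ^ (m ^ 2) *
      ∏ i ∈ Finset.range m, (Nat.card F ^ (2 * (i + 1)) - 1) := by
    have h1 : Nat.card (PSp m F) ∣ Nat.card (Matrix.symplecticGroup (Fin m) F) := Subgroup.card_quotient_dvd_card _
    rwa [Cfsg.Agent.S0245.result (F := F) rfl m, ← Nat.card_eq_fintype_card] at h1
  have hadj : ∀ u i : ℕ, u.Prime → u ≠ 2 → 1 ≤ i → i < m → u ∣ Nat.card F ^ (2 * i) - 1 →
      H94.PG.Adj (PSp m F) u 2 := fun u i hu hu2 hi him hd => psp_adj_two_of_dvd hi him hu hu2 hd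
  have hchar : ∀ u : ℕ, u.Prime → u ≠ 2 → u ∣ Nat.card F → H94.PG.Adj (PSp m F) u 2 :=
    fun u hu hu2 hd => psp_adj_two_of_char hm hu hu2 hd
  have hpow : 2 ≤ Nat.card F ^ m := le_trans (by omega) (Nat.le_self_pow (by omega) _)
  rcases Nat.even_or_odd (Nat.card F) with he | ho
  · have hev : Even (Nat.card F ^ m) := Nat.even_pow.2 ⟨he, by omega⟩
    have oA : Odd (Nat.card F ^ m - 1) := by
      obtain ⟨k, hk⟩ := hev
      exact ⟨k - 1, by omega⟩
    refine ⟨Nat.card F ^ m - 1, Nat.card F ^ m + 1, 1, Or.inr (by omega), Or.inl rfl, one_mul _, one_mul _, ?_⟩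
    exact twin_of h hq hm (Or.inl ⟨rfl, he⟩) (one_mul _) (one_mul _)
      (exists_psp_tor_plus (by omega) (by omega) (Or.inl ⟨oA, dvd_rfl⟩))
      (exists_psp_tor_minus (by omega) (by omega) (Or.inl ⟨hev.add_one, dvd_rfl⟩)) hcard hchar hadj
  · have hod : Odd (Nat.card F ^ m) := ho.pow
    obtain ⟨k, hk⟩ := hod
    refine ⟨k, k + 1, 2, Or.inl rfl, Or.inr rfl, by omega, by omega, ?_⟩
    exact twin_of h hq hm (Or.inr ⟨rfl, ho⟩) (by omega) (by omega)
      (exists_psp_tor_plus (by omega) (by omega) (Or.inr ⟨1, by omega⟩))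
      (exists_psp_tor_minus (by omega) (by omega) (Or.inr ⟨1, by omega⟩)) hcard hchar hadj

/-- **`Ω_{2m+1}(q)`** -/
theorem omegaOdd (ho : Odd (Nat.card F)) {m n : ℕ} (hm : 3 ≤ m) (h : IsoN (POmega F (quadFormOdd m F)) n) :
    ∃ A B c : ℕ, (A + 1 = B ∨ A + 2 = B) ∧ (c = 1 ∨ c = 2) ∧ c * A = Nat.card F ^ m - 1 ∧
      c * B = Nat.card F ^ m + 1 ∧ Twin (POmega F (quadFormOdd m F)) n A B := by
  classical
  letI := Fintype.ofFinite F
  have hq : 1 < Nat.card F := Finite.one_lt_card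
  have hfin : Finite (POmega F (quadFormOdd m F)) := inferInstance
  have hcard : Nat.card (POmega F (quadFormOdd m F)) ∣ Nat.card F ^ (m ^ 2) *
      ∏ i ∈ Finset.range m, (Nat.card F ^ (2 * (i + 1)) - 1) := by
    have h1 := Cfsg.Agent.S0292.result (F := F) rfl (by rwa [← Nat.card_eq_fintype_card]) m hm
    rw [← Nat.card_eq_fintype_card] at h1
    rw [← h1]
    exact dvd_mul_left _ _
  have hpow : 2 ≤ Nat.card F ^ m := le_trans (by omega) (Nat.le_self_pow (by omega) _)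
  have hod : Odd (Nat.card F ^ m) := ho.pow
  obtain ⟨k, hk⟩ := hod
  refine ⟨k, k + 1, 2, Or.inl rfl, Or.inr rfl, by omega, by omega, ?_⟩
  refine twin_of h hq (by omega) (Or.inr ⟨rfl, ho⟩) (by omega) (by omega)
      (OOdd.exists_even_tor ho hm (elt_tor_plus (by omega) (N := 2 * k) ⟨1, by omega⟩))
      (OOdd.exists_even_tor ho hm (elt_tor_minus (by omega) (N := 2 * (k + 1)) ⟨1, by omega⟩)) hcard
      (fun u hu hu2 hd => OOdd.adj_two_of_char ho hm hu hu2 hd)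
      (fun u i hu hu2 hi him hd => OOdd.adj_two_of_dvd ho hm hi him hu hu2 hd)

end

end Cfsg.Agent.H72.F4I.Iso
end

-- part: H72/F4I/Iso/Alt
section
set_option linter.all false
open scoped Cfsg.Agent.FastGrp

/-!
# Isolated numbers of the alternating groups (copy of H360.Iso with the bound 13; helper72)
-/

set_option autoImplicit false

namespace Cfsg.Agent.H72.F4I.Iso

open Cfsg Equiv

section

variable {n : ℕ}

/-- a prime divisor of the least common multiple divides a member -/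
theorem prime_dvd_lcm {r : ℕ} (hr : r.Prime) (s : Multiset ℕ) (h : r ∣ s.lcm) : ∃ c ∈ s, r ∣ c := by
  induction s using Multiset.induction_on with
  | empty =>
    rw [Multiset.lcm_zero] at h
    exact absurd (Nat.dvd_one.1 h) hr.one_lt.ne'
  | cons a s ih =>
    rw [Multiset.lcm_cons] at h
    have h1 : r ∣ a * s.lcm := h.trans (Nat.lcm_dvd (dvd_mul_right _ _) (dvd_mul_left _ _))
    rcases (Nat.Prime.dvd_mul hr).1 h1 with h2 | h2
    · exact ⟨a, Multiset.mem_cons_self _ _, h2⟩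
    · obtain ⟨c, hc, h3⟩ := ih h2
      exact ⟨c, Multiset.mem_cons_of_mem hc, h3⟩

/-- **alternating groups**: the isolated number is at most the degree -/
theorem alt_row {m : ℕ} (h : IsoN (alternatingGroup (Fin m)) n) : n ≤ m := by
  obtain ⟨r, hr, hrn⟩ := h.exists_prime
  have hr2 := h.ne_two hrn
  have hmr : m < r + 4 := by
    by_contra hcon
    have hro : Odd r := hr.odd_of_ne_two hr2
    obtain ⟨g, hg⟩ := H380.AltSpec.exists_orderOf (n := m) {r, 2, 2} (by simp; omega) (by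
      intro a ha
      simp only [Multiset.insert_eq_cons, Multiset.mem_cons, Multiset.mem_singleton] at ha
      rcases ha with rfl | rfl | rfl
      · exact hr.two_le
      · exact le_rfl
      · exact le_rfl) (by
      simp only [Multiset.insert_eq_cons, Multiset.sum_cons, Multiset.sum_singleton, Multiset.card_cons,
        Multiset.card_singleton]
      obtain ⟨k, hk⟩ := hro
      exact ⟨k + 4, by omega⟩)
    have h1 : r ∣ orderOf g := by
      rw [hg]; exact Multiset.dvd_lcm (by simp)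
    have h2 : 2 ∣ orderOf g := by
      rw [hg]; exact Multiset.dvd_lcm (by simp)
    exact h.not_two_dvd (h2.trans (h.iso g r hr hrn h1))
  obtain ⟨g, hg⟩ := h.elt
  have hg' : (g : Perm (Fin m)).cycleType.lcm = n := by
    rw [Equiv.Perm.lcm_cycleType, ← hg, Subgroup.orderOf_coe]
  obtain ⟨c, hc, hrc⟩ := prime_dvd_lcm hr _ (by rw [hg']; exact hrn)
  have hsum : (g : Perm (Fin m)).cycleType.sum ≤ m := by
    have := (g : Perm (Fin m)).sum_cycleType_le
    rwa [Fintype.card_fin] at this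
  obtain ⟨t, ht⟩ := Multiset.exists_cons_of_mem hc
  have hc2 : r ≤ c := Nat.le_of_dvd (by
    have := Equiv.Perm.two_le_of_mem_cycleType hc
    omega) hrc
  have ht0 : t = 0 := by
    by_contra hne
    obtain ⟨d, hd⟩ := Multiset.exists_mem_of_ne_zero hne
    obtain ⟨t', ht'⟩ := Multiset.exists_cons_of_mem hd
    have hdm : d ∈ (g : Perm (Fin m)).cycleType := by rw [ht]; exact Multiset.mem_cons_of_mem hd
    have hd2 := Equiv.Perm.two_le_of_mem_cycleType hdm
    rw [ht, ht', Multiset.sum_cons, Multiset.sum_cons] at hsum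
    have hdn : d ∣ n := by
      rw [← hg']; exact Multiset.dvd_lcm hdm
    have hd4 : d = 2 ∨ d = 3 := by omega
    rcases hd4 with rfl | rfl
    · exact h.not_two_dvd hdn
    · exact h.not_three_dvd hdn
  rw [ht, ht0] at hg' hsum
  simp only [Multiset.lcm_cons, Multiset.lcm_zero, Multiset.sum_cons, Multiset.sum_zero] at hg' hsum
  have : Nat.lcm c 1 = c := Nat.lcm_one_right c
  rw [← hg']
  change Nat.lcm c 1 ≤ m
  omega
end

end Cfsg.Agent.H72.F4I.Iso
end

-- part: H72/F4I/Iso/TwF4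
section
set_option linter.all false
open scoped Cfsg.Agent.FastGrp

/-!
# Isolated numbers of `²F₄(q)` (copy of H360.Iso with the bound 13; helper72)
-/

set_option autoImplicit false
set_option linter.unusedSectionVars false

namespace Cfsg.Agent.H72.F4I.Iso

open Cfsg Cfsg.Lie
open Cfsg.Agent.H360.Iso (f4t_plus f4t_minus)

universe u

section Main

variable {K : Type u} [Field K] [Fintype K] {m : ℕ} (hK : Fintype.card K = 2 ^ (2 * m + 1))

include hK

/-- **`²F₄(q)`**: the isolated number, `q = 2 b²` -/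
theorem f4t_row (hm : 1 ≤ m) {b : ℕ} (hb : b = 2 ^ m) {n : ℕ} (h : IsoN ↥(twistedF4 K (2 ^ m)) n) :
    n = 4 * b ^ 4 + 4 * b ^ 3 + 2 * b ^ 2 + 2 * b + 1 ∨ n + 4 * b ^ 3 + 2 * b = 4 * b ^ 4 + 2 * b ^ 2 + 1 ∨
      n = 16 * b ^ 8 - 4 * b ^ 4 + 1 := by
  have hfin : Finite ↥(twistedF4 K (2 ^ m)) := inferInstance
  have hcK : Nat.card K = 2 * b ^ 2 := by
    rw [Nat.card_eq_fintype_card, hK, hb, ← pow_mul, pow_succ]
    ring
  have hb1 : 1 ≤ b := by rw [hb]; exact Nat.one_le_two_pow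
  obtain ⟨c, hc⟩ : ∃ c, b = c + 1 := ⟨b - 1, by omega⟩
  -- the two numbers
  obtain ⟨P, hP⟩ : ∃ P, P = 4 * b ^ 4 + 4 * b ^ 3 + 2 * b ^ 2 + 2 * b + 1 := ⟨_, rfl⟩
  obtain ⟨M, hM⟩ : ∃ M, M + 4 * b ^ 3 + 2 * b = 4 * b ^ 4 + 2 * b ^ 2 + 1 := by
    refine ⟨4 * b ^ 4 + 2 * b ^ 2 + 1 - (4 * b ^ 3 + 2 * b), ?_⟩
    have h1 : 4 * b ^ 3 + 2 * b ≤ 4 * b ^ 4 + 2 * b ^ 2 + 1 := by
      have h2 : b ^ 3 ≤ b ^ 4 := Nat.pow_le_pow_right (by omega) (by norm_num)
      nlinarith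
    omega
  obtain ⟨D, hD⟩ : ∃ D, D + 4 * b ^ 4 = 16 * b ^ 8 + 1 := by
    refine ⟨16 * b ^ 8 + 1 - 4 * b ^ 4, ?_⟩
    have h2 : b ^ 4 ≤ b ^ 8 := Nat.pow_le_pow_right (by omega) (by norm_num)
    omega
  have eP := f4t_plus hK hb
  rw [← hP] at eP
  have eM := f4t_minus hK hb hM
  have hPM : P * M = D := by
    have h1 : ((P * M : ℕ) : ℤ) = (D : ℤ) := by
      have h2 : (M : ℤ) = 4 * (b : ℤ) ^ 4 + 2 * (b : ℤ) ^ 2 + 1 - 4 * (b : ℤ) ^ 3 - 2 * (b : ℤ) := by
        have : ((M + 4 * b ^ 3 + 2 * b : ℕ) : ℤ) = ((4 * b ^ 4 + 2 * b ^ 2 + 1 : ℕ) : ℤ) := by rw [hM]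
        push_cast at this
        linarith
      have h3 : (D : ℤ) = 16 * (b : ℤ) ^ 8 + 1 - 4 * (b : ℤ) ^ 4 := by
        have : ((D + 4 * b ^ 4 : ℕ) : ℤ) = ((16 * b ^ 8 + 1 : ℕ) : ℤ) := by rw [hD]
        push_cast at this
        linarith
      rw [h3]
      push_cast
      rw [h2, hP]
      push_cast
      ring
    exact_mod_cast h1
  have hcyc : ((Polynomial.cyclotomic 12 ℤ).eval ((Nat.card K : ℕ) : ℤ)).natAbs = D := by
    rw [H378.TwRows.eval_cyc12]
    have h3 : (D : ℤ) = 16 * (b : ℤ) ^ 8 + 1 - 4 * (b : ℤ) ^ 4 := by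
      have : ((D + 4 * b ^ 4 : ℕ) : ℤ) = ((16 * b ^ 8 + 1 : ℕ) : ℤ) := by rw [hD]
      push_cast at this
      linarith
    rw [hcK]
    push_cast
    rw [show (2 * (b : ℤ) ^ 2) ^ 4 - (2 * (b : ℤ) ^ 2) ^ 2 + 1 = (D : ℤ) by rw [h3]; ring]
    rfl
  -- `n ∣ D`
  have hnD : n ∣ D := by
    obtain ⟨r, hr, hrn⟩ := h.exists_prime
    rcases H378.TwRowsF.near_2F4 hm hK hr (h.prime_dvd_card hrn) with h1 | h1
    · exact absurd h1 (h.not_near hrn)
    · obtain ⟨g, hg⟩ := h.elt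
      obtain ⟨k, hk⟩ := hrn
      have hn0 : 0 < n := by have := h.big; omega
      have hk0 : k ≠ 0 := by
        rintro rfl
        omega
      have h1' : orderOf (g ^ k) = r := by
        rw [orderOf_pow_of_dvd hk0 (by rw [hg, hk]; exact dvd_mul_left _ _), hg, hk,
          Nat.mul_div_cancel _ (Nat.pos_of_ne_zero hk0)]
      have h2 := (H378.TwRowsF.cent_2F4 hK hr h1' h1).2
      rw [hcyc] at h2
      have h3' : g ∈ Subgroup.centralizer {g ^ k} := by
        rw [Subgroup.mem_centralizer_singleton_iff]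
        exact (Commute.self_pow g k).eq
      have h5 : orderOf (⟨g, h3'⟩ : ↥(Subgroup.centralizer {g ^ k})) ∣ Nat.card ↥(Subgroup.centralizer {g ^ k}) :=
        orderOf_dvd_natCard _
      rw [Subgroup.orderOf_mk, hg] at h5
      exact h5.trans h2
  have hcop : Nat.Coprime P M := by
    have e1 : P = M + 4 * b * (2 * b ^ 2 + 1) := by
      have : 4 * b * (2 * b ^ 2 + 1) = 8 * b ^ 3 + 4 * b := by ring
      omega
    have h1 : Nat.Coprime P (4 * b * (2 * b ^ 2 + 1)) := by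
      refine Nat.Coprime.mul_right (Nat.Coprime.mul_right ?_ ?_) ?_
      · rw [show 4 = 2 ^ 2 from rfl]
        refine Nat.Coprime.pow_right 2 (Nat.coprime_two_right.2 ⟨2 * b ^ 4 + 2 * b ^ 3 + b ^ 2 + b, ?_⟩)
        rw [hP]; ring
      · have : P = b * (4 * b ^ 3 + 4 * b ^ 2 + 2 * b + 2) + 1 := by rw [hP]; ring
        rw [this]
        simp
      · have : P = (2 * b ^ 2 + 1) * (2 * b ^ 2 + 2 * b) + 1 := by rw [hP]; ring
        rw [this]
        simp
    refine Nat.coprime_of_dvd fun s hs hsP hsM => ?_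
    have h2 : s ∣ 4 * b * (2 * b ^ 2 + 1) := by
      rw [e1] at hsP
      exact (Nat.dvd_add_right hsM).1 hsP
    have h3 : s ∣ 1 := by
      rw [← h1]
      exact Nat.dvd_gcd hsP h2
    exact hs.one_lt.ne' (Nat.dvd_one.1 h3)
  rw [← hPM] at hnD
  by_cases hPn : P ∣ n
  · by_cases hMn : M ∣ n
    · right; right
      have h1 : n = P * M := Nat.dvd_antisymm hnD (hcop.mul_dvd_of_dvd_of_dvd hPn hMn)
      rw [h1, hPM]
      omega
    · left
      rw [← hP]
      refine Nat.dvd_antisymm ?_ hPn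
      rw [mul_comm] at hnD
      exact dvd_of_primes hnD fun s hs hsn hsM => hMn (h.dvd_of_elt eM hs hsn hsM)
  · right; left
    have h1 : n ∣ M := dvd_of_primes hnD fun s hs hsn hsP => hPn (h.dvd_of_elt eP hs hsn hsP)
    obtain ⟨r, hr, hrn⟩ := h.exists_prime
    rw [Nat.dvd_antisymm h1 (h.dvd_of_elt eM hr hrn (hrn.trans h1)), hM]

end Main

end Cfsg.Agent.H72.F4I.Iso
end

-- part: H72/F4I/SzRee
section
set_option linter.all false
open scoped Cfsg.Agent.FastGrp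

/-!
# Isolated numbers of `Sz(u)`, `Ree(u)` (helper72)
-/

set_option autoImplicit false
set_option linter.unusedSectionVars false

namespace Cfsg.Agent.H72.F4I

open Cfsg Cfsg.Lie Cfsg.Agent.H72.F4I.Iso

universe v

/-- **`Sz(u)`** -/
theorem sz_row {n : ℕ} {F : Type v} [Field F] [Fintype F] {m : ℕ} (hm : 1 ≤ m) (hF : Fintype.card F = 2 ^ (2 * m + 1))
    (h : IsoN ↥(Lie.Sz F (2 ^ (m + 1))) n) :
    n + 1 = 2 ^ (2 * m + 1) ∨ n = 2 ^ (2 * m + 1) + 2 ^ (m + 1) + 1 ∨ n + 2 ^ (m + 1) = 2 ^ (2 * m + 1) + 1 := by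
  obtain ⟨e⟩ := Cfsg.Agent.OddCyclic.ClaimC.SzIso.iso hm hF
  have h := h.congr e.symm
  have hfin : Finite ↥(Cfsg.Sz F m) := inferInstance
  obtain ⟨x, hx⟩ := h.elt
  have hb := h.big
  have hx1 : x ≠ 1 := by
    rintro rfl
    rw [orderOf_one] at hx
    omega
  obtain ⟨U, ⟨hU, hxU⟩, -⟩ := Cfsg.Agent.S2238.result hm hF x hx1
  have hdU : n ∣ Nat.card ↥U := by
    rw [← hx, ← Subgroup.orderOf_mk _ hxU]
    exact orderOf_dvd_natCard _
  rcases hU with ⟨P, rfl⟩ | ⟨hc, hN⟩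
  · exfalso
    obtain ⟨k, hk⟩ := IsPGroup.iff_card.1 P.isPGroup'
    rw [hk] at hdU
    have h1 : Nat.Coprime n (2 ^ k) := (Nat.coprime_two_right.2 h.odd).pow_right k
    have h2 := h1.eq_one_of_dvd hdU
    omega
  · obtain ⟨s, hs, hsn⟩ := h.exists_prime
    obtain ⟨c, hc⟩ := hc.exists_generator
    have hc' : orderOf (c : ↥(Cfsg.Sz F m)) = Nat.card ↥U := by
      rw [Subgroup.orderOf_coe]
      exact orderOf_eq_card_of_forall_mem_zpowers hc
    have hUn : Nat.card ↥U = n :=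
      Nat.dvd_antisymm (h.dvd_of_elt ⟨_, hc'⟩ hs hsn (hsn.trans hdU)) hdU
    rw [hUn] at hN
    have e1 : 2 ^ (2 * m + 1) = 2 * (2 ^ m) ^ 2 := by ring
    have e2 : 2 ^ (m + 1) = 2 * 2 ^ m := by ring
    have hw : 2 ≤ 2 ^ m := by
      calc 2 = 2 ^ 1 := rfl
        _ ≤ 2 ^ m := Nat.pow_le_pow_right (by norm_num) hm
    rw [e1, e2] at hN ⊢
    generalize 2 ^ m = w at *
    have hww : 2 * w ≤ w ^ 2 := by nlinarith
    rcases hN with hN | hN | hN
    · left
      omega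
    · right; left
      omega
    · right; right
      rw [Set.mem_singleton_iff] at hN
      omega

/-- **`Ree(u)`** -/
theorem ree_row {n : ℕ} {K : Type v} [Field K] [Fintype K] {m : ℕ} (hm : 1 ≤ m) (hF : Fintype.card K = 3 ^ (2 * m + 1))
    (h : IsoN ↥(Lie.twistedG2 K (3 ^ m)) n) :
    n + 3 ^ (m + 1) = 3 ^ (2 * m + 1) + 1 ∨ n = 3 ^ (2 * m + 1) + 3 ^ (m + 1) + 1 := by
  have hfin : Finite ↥(Cfsg.Lie.twistedG2 K (3 ^ m)) := inferInstance
  have hb := h.big
  have hodd := h.odd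
  rw [Nat.odd_iff] at hodd
  obtain ⟨s, hs, hsn⟩ := h.exists_prime
  have hS := Cfsg.Agent.S1159.result hm hF
  have key : ∀ N : ℕ, (∃ g : ↥(Cfsg.Lie.twistedG2 K (3 ^ m)), orderOf g = N) → n ∣ N → N = n :=
    fun N hN hd => Nat.dvd_antisymm (h.dvd_of_elt hN hs hsn (hsn.trans hd)) hd
  have hu4 : 3 ^ (2 * m + 1) % 4 = 3 := by
    rw [pow_succ, pow_mul, Nat.mul_mod, Nat.pow_mod]
    norm_num
  have e1 : 3 ^ (2 * m + 1) = 3 ^ (m + 1) * 3 ^ m := by rw [← pow_add]; congr 1; omega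
  have hw : 3 ≤ 3 ^ m := by
    calc 3 = 3 ^ 1 := rfl
      _ ≤ 3 ^ m := Nat.pow_le_pow_right (by norm_num) hm
  have hle : 3 ^ (m + 1) ≤ 3 ^ (2 * m + 1) := Nat.pow_le_pow_right (by norm_num) (by omega)
  rcases (hS _).1 h.elt with h1 | h1 | h1 | h1 | h1 | h1
  · have := Nat.le_of_dvd (by norm_num) h1
    omega
  · have := Nat.le_of_dvd (by norm_num) h1
    omega
  · have h2 := key _ ((hS _).2 (Or.inr (Or.inr (Or.inl dvd_rfl)))) h1
    omega
  · have h2 := key _ ((hS _).2 (Or.inr (Or.inr (Or.inr (Or.inl dvd_rfl))))) h1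
    omega
  · have h2 := key _ ((hS _).2 (Or.inr (Or.inr (Or.inr (Or.inr (Or.inl dvd_rfl)))))) h1
    left
    omega
  · have h2 := key _ ((hS _).2 (Or.inr (Or.inr (Or.inr (Or.inr (Or.inr dvd_rfl)))))) h1
    right
    omega

end Cfsg.Agent.H72.F4I
end
end
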